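import Mathlib
import Groth.Prelude.Def_W4c1btstackcountsChain

set_option autoImplicit false
open Module

namespace Groth.Agent.H8.Chain

universe u

variable {k : Type u} [Field k]

section Abstract

variable {V : ℕ → Type u} [∀ i, AddCommGroup (V i)] [∀ i, Module k (V i)]

/-- composite `V i → V j` of a chain of linear maps. -/
noncomputable def cmp (F : ∀ i, V i →ₗ[k] V (i + 1)) (i j : ℕ) (h : i ≤ j) : V i →ₗ[k] V j :=
  Nat.leRecOn (C := fun j => V i →ₗ[k] V j) h (fun {j} φ => (F j).comp φ) LinearMap.id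

theorem cmp_self (F : ∀ i, V i →ₗ[k] V (i + 1)) (i : ℕ) (h : i ≤ i) :
    cmp F i i h = LinearMap.id :=
  Nat.leRecOn_self _

theorem cmp_succ (F : ∀ i, V i →ₗ[k] V (i + 1)) (i j : ℕ) (h : i ≤ j) (h' : i ≤ j + 1) :
    cmp F i (j + 1) h' = (F j).comp (cmp F i j h) :=
  Nat.leRecOn_succ h _

theorem cmp_trans (F : ∀ i, V i →ₗ[k] V (i + 1)) (i j : ℕ) (h1 : i ≤ j) :
    ∀ (l : ℕ) (h2 : j ≤ l) (h3 : i ≤ l),
      cmp F i l h3 = (cmp F j l h2).comp (cmp F i j h1) := by
  intro l h2
  induction l, h2 using Nat.le_induction with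
  | base => intro h3; rw [cmp_self, LinearMap.id_comp]
  | succ l h2 ih =>
    intro h3
    rw [cmp_succ F i l (h1.trans h2) h3, cmp_succ F j l h2, ih (h1.trans h2),
      LinearMap.comp_assoc]

theorem cmp_left (F : ∀ i, V i →ₗ[k] V (i + 1)) (i j : ℕ) (h : i ≤ j) (h' : i + 1 ≤ j) :
    cmp F i j h = (cmp F (i + 1) j h').comp (F i) := by
  rw [cmp_trans F i (i + 1) (Nat.le_succ i) j h' h, cmp_succ F i i le_rfl, cmp_self,
    LinearMap.comp_id]

theorem cmp_congr (F F' : ∀ i, V i →ₗ[k] V (i + 1)) (i : ℕ) :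
    ∀ (j : ℕ) (h : i ≤ j), (∀ l, i ≤ l → l < j → F l = F' l) → cmp F i j h = cmp F' i j h := by
  intro j h
  induction j, h using Nat.le_induction with
  | base => intro _; rw [cmp_self, cmp_self]
  | succ j h ih =>
    intro hF
    rw [cmp_succ F i j h, cmp_succ F' i j h, ih (fun l h1 h2 => hF l h1 (Nat.lt_succ_of_lt h2)),
      hF j h (Nat.lt_succ_self j)]

/-- rank of the composite `V i → V j` (zero if `j < i`). -/
noncomputable def rk (F : ∀ i, V i →ₗ[k] V (i + 1)) (i j : ℕ) : ℕ :=
  if h : i ≤ j then finrank k (LinearMap.range (cmp F i j h)) else 0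

theorem rk_of_le (F : ∀ i, V i →ₗ[k] V (i + 1)) (i j : ℕ) (h : i ≤ j) :
    rk F i j = finrank k (LinearMap.range (cmp F i j h)) := dif_pos h

theorem range_cmp_succ (F : ∀ i, V i →ₗ[k] V (i + 1)) (i j : ℕ) (h : i ≤ j) (h' : i ≤ j + 1) :
    LinearMap.range (cmp F i (j + 1) h') = (LinearMap.range (cmp F i j h)).map (F j) := by
  rw [cmp_succ F i j h, LinearMap.range_comp]

theorem range_cmp_le (F : ∀ i, V i →ₗ[k] V (i + 1)) (i j : ℕ) (h : i ≤ j) (h' : i + 1 ≤ j) :
    LinearMap.range (cmp F i j h) ≤ LinearMap.range (cmp F (i + 1) j h') := by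
  rw [cmp_left F i j h h']
  exact LinearMap.range_comp_le_range _ _

theorem finrank_map_add_le {W W' : Type u} [AddCommGroup W] [Module k W] [AddCommGroup W']
    [Module k W'] [FiniteDimensional k W] (φ : W →ₗ[k] W') (A B : Submodule k W) (hAB : A ≤ B) :
    finrank k (B.map φ) + finrank k A ≤ finrank k B + finrank k (A.map φ) := by
  have hA := (φ.domRestrict A).finrank_range_add_finrank_ker
  have hB := (φ.domRestrict B).finrank_range_add_finrank_ker
  rw [LinearMap.range_domRestrict] at hA hB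
  have hle : finrank k (LinearMap.ker (φ.domRestrict A)) ≤
      finrank k (LinearMap.ker (φ.domRestrict B)) := by
    have hι : ∀ x ∈ LinearMap.ker (φ.domRestrict A),
        (Submodule.inclusion hAB) x ∈ LinearMap.ker (φ.domRestrict B) := by
      intro x hx
      rw [LinearMap.mem_ker] at hx ⊢
      exact hx
    refine LinearMap.finrank_le_finrank_of_injective
      (f := (Submodule.inclusion hAB).restrict hι) ?_
    intro x y hxy
    exact Subtype.ext (Submodule.inclusion_injective hAB (congrArg Subtype.val hxy))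
  omega

variable [∀ i, FiniteDimensional k (V i)]

theorem rk_self (F : ∀ i, V i →ₗ[k] V (i + 1)) (j : ℕ) : rk F j j = finrank k (V j) := by
  rw [rk_of_le F j j le_rfl, cmp_self, LinearMap.range_id, finrank_top]

theorem rk_le_left (F : ∀ i, V i →ₗ[k] V (i + 1)) (i j : ℕ) (h : i + 1 ≤ j) :
    rk F i j ≤ rk F (i + 1) j := by
  rw [rk_of_le F i j (Nat.le_of_succ_le h), rk_of_le F (i + 1) j h]
  exact Submodule.finrank_mono (range_cmp_le F i j _ h)

theorem rk_succ_le (F : ∀ i, V i →ₗ[k] V (i + 1)) (i j : ℕ) (h : i ≤ j) :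
    rk F i (j + 1) ≤ rk F i j := by
  rw [rk_of_le F i (j + 1) (Nat.le_succ_of_le h), rk_of_le F i j h, range_cmp_succ F i j h]
  exact Submodule.finrank_map_le _ _

theorem rk_modular (F : ∀ i, V i →ₗ[k] V (i + 1)) (i j : ℕ) (h : i + 1 ≤ j) :
    rk F (i + 1) (j + 1) + rk F i j ≤ rk F (i + 1) j + rk F i (j + 1) := by
  have hij : i ≤ j := Nat.le_of_succ_le h
  rw [rk_of_le F (i + 1) (j + 1) (Nat.le_succ_of_le h), rk_of_le F i j hij,
    rk_of_le F (i + 1) j h, rk_of_le F i (j + 1) (Nat.le_succ_of_le hij),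
    range_cmp_succ F (i + 1) j h, range_cmp_succ F i j hij]
  exact finrank_map_add_le (F j) _ _ (range_cmp_le F i j hij h)

end Abstract

section Congr

variable {V V' : ℕ → Type u} [∀ i, AddCommGroup (V i)] [∀ i, Module k (V i)]
  [∀ i, AddCommGroup (V' i)] [∀ i, Module k (V' i)]

theorem cmp_comm (F : ∀ i, V i →ₗ[k] V (i + 1)) (F' : ∀ i, V' i →ₗ[k] V' (i + 1))
    (e : ∀ j, V j →ₗ[k] V' j) (hc : ∀ j, (F' j).comp (e j) = (e (j + 1)).comp (F j)) (i : ℕ) :
    ∀ (j : ℕ) (h : i ≤ j), (cmp F' i j h).comp (e i) = (e j).comp (cmp F i j h) := by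
  intro j h
  induction j, h using Nat.le_induction with
  | base => rw [cmp_self, cmp_self, LinearMap.id_comp, LinearMap.comp_id]
  | succ j h ih =>
    rw [cmp_succ F' i j h, cmp_succ F i j h, LinearMap.comp_assoc, ih, ← LinearMap.comp_assoc,
      hc j, LinearMap.comp_assoc]

theorem rk_congr (F : ∀ i, V i →ₗ[k] V (i + 1)) (F' : ∀ i, V' i →ₗ[k] V' (i + 1))
    (e : ∀ j, V j →ₗ[k] V' j) (he : ∀ j, Function.Bijective (e j))
    (hc : ∀ j, (F' j).comp (e j) = (e (j + 1)).comp (F j)) (i j : ℕ) :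
    rk F' i j = rk F i j := by
  by_cases h : i ≤ j
  · rw [rk_of_le F' i j h, rk_of_le F i j h]
    have h1 : LinearMap.range (cmp F' i j h) = (LinearMap.range (cmp F i j h)).map (e j) := by
      rw [← LinearMap.range_comp, ← cmp_comm F F' e hc i j h,
        LinearMap.range_comp_of_range_eq_top]
      exact LinearMap.range_eq_top.mpr (he i).2
    rw [h1]
    exact (Submodule.equivMapOfInjective (e j) (he j).1 _).symm.finrank_eq
  · unfold rk; rw [dif_neg h, dif_neg h]

end Congr

section Concrete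

open W4c1btstackcounts

variable {d : ℕ → ℕ}

/-- the spaces `k^{d i}`. -/
abbrev Sp (k : Type u) (d : ℕ → ℕ) (i : ℕ) : Type u := Fin (d i) → k

/-- the chain of linear maps of a chain of matrices. -/
noncomputable def lin (f : (i : ℕ) → Matrix (Fin (d (i + 1))) (Fin (d i)) k) (i : ℕ) :
    Sp k d i →ₗ[k] Sp k d (i + 1) := Matrix.toLin' (f i)

theorem iterImage_eq (f : (i : ℕ) → Matrix (Fin (d (i + 1))) (Fin (d i)) k) (i n : ℕ) :
    iterImage f i n = LinearMap.range (cmp (V := Sp k d) (lin f) i (i + n) (Nat.le_add_right i n)) := by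
  induction n with
  | zero =>
    show (⊤ : Submodule k (Sp k d i)) = LinearMap.range (cmp (V := Sp k d) (lin f) i i le_rfl)
    rw [cmp_self, LinearMap.range_id]
  | succ n ih =>
    show (iterImage f i n).map (Matrix.toLin' (f (i + n))) =
      LinearMap.range (cmp (V := Sp k d) (lin f) i (i + n + 1) _)
    rw [ih, range_cmp_succ (V := Sp k d) (lin f) i (i + n) (Nat.le_add_right i n)]
    rfl

theorem rankArray_add (f : (i : ℕ) → Matrix (Fin (d (i + 1))) (Fin (d i)) k) (i n : ℕ) :
    rankArray f i (i + n) = finrank k (iterImage f i n) := by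
  unfold rankArray
  rw [if_pos (Nat.le_add_right i n), Nat.add_sub_cancel_left]

theorem rankArray_eq_rk (f : (i : ℕ) → Matrix (Fin (d (i + 1))) (Fin (d i)) k) (i j : ℕ) :
    rankArray f i j = rk (V := Sp k d) (lin f) i j := by
  by_cases h : i ≤ j
  · obtain ⟨n, rfl⟩ := Nat.exists_eq_add_of_le h
    rw [rankArray_add, iterImage_eq, rk_of_le (V := Sp k d) (lin f) i (i + n) h]
  · unfold rankArray rk
    rw [if_neg h, dif_neg h]

theorem rankArray_conj (g : (j : ℕ) → Matrix.GeneralLinearGroup (Fin (d j)) k)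
    (f : (i : ℕ) → Matrix (Fin (d (i + 1))) (Fin (d i)) k) (i j : ℕ) :
    rankArray (conj g f) i j = rankArray f i j := by
  rw [rankArray_eq_rk, rankArray_eq_rk]
  refine rk_congr (V := Sp k d) (V' := Sp k d) (lin f) (lin (conj g f))
    (fun j => Matrix.toLin' ((g j : Matrix.GeneralLinearGroup (Fin (d j)) k) :
      Matrix (Fin (d j)) (Fin (d j)) k)) ?_ ?_ i j
  · intro j
    rw [Function.bijective_iff_has_inverse]
    refine ⟨Matrix.toLin' (((g j)⁻¹ : Matrix.GeneralLinearGroup (Fin (d j)) k) :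
      Matrix (Fin (d j)) (Fin (d j)) k), ?_, ?_⟩
    · intro x
      have h1 : (Matrix.toLin' (((g j)⁻¹ : Matrix.GeneralLinearGroup (Fin (d j)) k) :
          Matrix (Fin (d j)) (Fin (d j)) k)).comp (Matrix.toLin' ((g j :
          Matrix.GeneralLinearGroup (Fin (d j)) k) : Matrix (Fin (d j)) (Fin (d j)) k)) =
          LinearMap.id := by
        rw [← Matrix.toLin'_mul, ← Units.val_mul, inv_mul_cancel, Units.val_one,
          Matrix.toLin'_one]
      exact LinearMap.congr_fun h1 x
    · intro x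
      have h1 : (Matrix.toLin' ((g j : Matrix.GeneralLinearGroup (Fin (d j)) k) :
          Matrix (Fin (d j)) (Fin (d j)) k)).comp (Matrix.toLin' (((g j)⁻¹ :
          Matrix.GeneralLinearGroup (Fin (d j)) k) : Matrix (Fin (d j)) (Fin (d j)) k)) =
          LinearMap.id := by
        rw [← Matrix.toLin'_mul, ← Units.val_mul, mul_inv_cancel, Units.val_one,
          Matrix.toLin'_one]
      exact LinearMap.congr_fun h1 x
  · intro j
    show (Matrix.toLin' (conj g f j)).comp (Matrix.toLin' _) =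
      (Matrix.toLin' _).comp (Matrix.toLin' (f j))
    rw [← Matrix.toLin'_mul, ← Matrix.toLin'_mul]
    congr 1
    unfold conj
    rw [Matrix.mul_assoc, ← Units.val_mul, inv_mul_cancel, Units.val_one, Matrix.mul_one]

theorem isRankArray_rankArray (f : (i : ℕ) → Matrix (Fin (d (i + 1))) (Fin (d i)) k) (r : ℕ) :
    IsRankArray d r (rankArray f) := by
  have e : rankArray f = rk (V := Sp k d) (lin f) := by
    funext i j; exact rankArray_eq_rk f i j
  rw [e]
  refine ⟨?_, ?_, ?_, ?_⟩
  · intro j _ _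
    rw [rk_self]; exact Module.finrank_fin_fun k
  · intro i j _ hij _
    exact rk_le_left (V := Sp k d) (lin f) i j hij
  · intro i j _ hij _
    exact rk_succ_le (V := Sp k d) (lin f) i j hij
  · intro i j hi hij _
    obtain ⟨i', rfl⟩ : ∃ i', i = i' + 1 := ⟨i - 1, by omega⟩
    rw [Nat.add_sub_cancel]
    exact rk_modular (V := Sp k d) (lin f) i' j hij

end Concrete

end Groth.Agent.H8.Chain
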