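import Mathlib
import Groth.Prelude.Def_W4c1btstackcountsChain
import Groth.Agent.Lib.Helper8.Chain.Basic

set_option autoImplicit false
open Module

namespace Groth.Agent.H8.Chain

universe u

variable {k : Type u} [Field k]

section Flag

variable {W : Type u} [AddCommGroup W] [Module k W] [FiniteDimensional k W]

theorem exists_le_finrank_eq (P : Submodule k W) (m : ℕ) (hm : m ≤ finrank k P) :
    ∃ Y : Submodule k W, Y ≤ P ∧ finrank k Y = m := by
  obtain ⟨b, hb⟩ := exists_linearIndependent_of_le_finrank hm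
  refine ⟨(Submodule.span k (Set.range b)).map P.subtype, Submodule.map_subtype_le _ _, ?_⟩
  rw [Submodule.finrank_map_subtype_eq, finrank_span_eq_card hb, Fintype.card_fin]

theorem finrank_map_add_finrank_inf_ker {W' : Type u} [AddCommGroup W'] [Module k W']
    (φ : W →ₗ[k] W') (A : Submodule k W) :
    finrank k (A.map φ) + finrank k ↥(A ⊓ LinearMap.ker φ) = finrank k A := by
  have h1 := (φ.domRestrict A).finrank_range_add_finrank_ker
  rw [LinearMap.range_domRestrict] at h1
  have h2 : (LinearMap.ker (φ.domRestrict A)).map A.subtype = A ⊓ LinearMap.ker φ := by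
    ext y
    constructor
    · rintro ⟨a, ha, rfl⟩
      exact ⟨a.2, LinearMap.mem_ker.mpr (LinearMap.mem_ker.mp ha)⟩
    · rintro ⟨hyA, hyk⟩
      exact ⟨⟨y, hyA⟩, LinearMap.mem_ker.mpr (LinearMap.mem_ker.mp hyk), rfl⟩
  rw [← h2, Submodule.finrank_map_subtype_eq]
  exact h1

theorem exists_map_ker_eq (Z : Submodule k W) (N : ℕ) (hN : finrank k W ≤ finrank k Z + N) :
    ∃ φ : W →ₗ[k] (Fin N → k), LinearMap.ker φ = Z := by
  have h1 := Z.finrank_quotient_add_finrank
  have h2 : finrank k (W ⧸ Z) ≤ finrank k (⊤ : Submodule k (Fin N → k)) := by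
    rw [finrank_top, Module.finrank_fin_fun]; omega
  obtain ⟨Y, -, hY⟩ := exists_le_finrank_eq (⊤ : Submodule k (Fin N → k)) _ h2
  obtain ⟨e⟩ : Nonempty ((W ⧸ Z) ≃ₗ[k] Y) := ⟨LinearEquiv.ofFinrankEq _ _ hY.symm⟩
  refine ⟨Y.subtype.comp (e.toLinearMap.comp Z.mkQ), ?_⟩
  ext x
  rw [LinearMap.mem_ker]
  show ((e (Z.mkQ x) : Y) : Fin N → k) = 0 ↔ x ∈ Z
  rw [ZeroMemClass.coe_eq_zero, LinearEquiv.map_eq_zero_iff, Submodule.mkQ_apply,
    Submodule.Quotient.mk_eq_zero]

theorem flag_mono (Wf : ℕ → Submodule k W) (n : ℕ) (h : ∀ i, i + 1 < n → Wf i ≤ Wf (i + 1))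
    (i : ℕ) : ∀ j, i ≤ j → j < n → Wf i ≤ Wf j := by
  intro j hij
  induction j, hij using Nat.le_induction with
  | base => intro _; exact le_rfl
  | succ j hij ih => intro hj; exact (ih (by omega)).trans (h j hj)

theorem exists_flag_inter (Wf : ℕ → Submodule k W) (γ : ℕ → ℕ) :
    ∀ n : ℕ, (∀ i, i + 1 < n → Wf i ≤ Wf (i + 1)) → (0 < n → γ 0 ≤ finrank k (Wf 0)) →
      (∀ i, i + 1 < n → γ i ≤ γ (i + 1) ∧
        γ (i + 1) + finrank k (Wf i) ≤ finrank k (Wf (i + 1)) + γ i) →
      ∃ Z : Submodule k W, (∀ i, i < n → finrank k ↥(Wf i ⊓ Z) = γ i) ∧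
        (∀ m, n = m + 1 → Z ≤ Wf m) := by
  intro n
  induction n with
  | zero =>
    intro _ _ _
    exact ⟨⊥, fun i hi => absurd hi (Nat.not_lt_zero i), fun m hm => absurd hm (by omega)⟩
  | succ n ih =>
    intro hmono h0 hstep
    obtain ⟨Z, hZ1, hZ2⟩ := ih (fun i hi => hmono i (by omega)) (fun hn => h0 (by omega))
      (fun i hi => hstep i (by omega))
    rcases Nat.eq_zero_or_pos n with hn | hn
    · subst hn
      obtain ⟨Y, hY1, hY2⟩ := exists_le_finrank_eq (Wf 0) (γ 0) (h0 (by omega))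
      refine ⟨Y, fun i hi => ?_, fun m hm => ?_⟩
      · have hi0 : i = 0 := by omega
        subst hi0
        rw [inf_eq_right.mpr hY1]; exact hY2
      · have hm0 : m = 0 := by omega
        subst hm0; exact hY1
    · obtain ⟨m, rfl⟩ : ∃ m, n = m + 1 := ⟨n - 1, by omega⟩
      have hZm : Z ≤ Wf m := hZ2 m rfl
      have hmm : Wf m ≤ Wf (m + 1) := hmono m (by omega)
      obtain ⟨C, hCd, hCs⟩ := IsModularLattice.exists_disjoint_and_sup_eq hmm
      have hCbot : Wf m ⊓ C = ⊥ := disjoint_iff.mp hCd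
      have hfC : finrank k (Wf (m + 1)) = finrank k (Wf m) + finrank k C := by
        have h1 := Submodule.finrank_sup_add_finrank_inf_eq (Wf m) C
        rw [hCs, hCbot, finrank_bot, add_zero] at h1
        exact h1
      obtain ⟨hγ1, hγ2⟩ := hstep m (by omega)
      obtain ⟨Y, hY1, hY2⟩ := exists_le_finrank_eq C (γ (m + 1) - γ m) (by omega)
      have hZY : Z ⊓ Y = ⊥ := by
        apply le_bot_iff.mp
        rw [← hCbot]
        exact inf_le_inf hZm hY1
      have hfZ : finrank k Z = γ m := by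
        have h1 := hZ1 m (by omega)
        rwa [inf_eq_right.mpr hZm] at h1
      have hfZY : finrank k ↥(Z ⊔ Y) = γ (m + 1) := by
        have h1 := Submodule.finrank_sup_add_finrank_inf_eq Z Y
        rw [hZY, finrank_bot, add_zero, hfZ, hY2] at h1
        omega
      have hZY_le : Z ⊔ Y ≤ Wf (m + 1) :=
        sup_le (hZm.trans hmm) (hY1.trans (le_sup_right.trans hCs.le))
      refine ⟨Z ⊔ Y, fun i hi => ?_, fun m' hm' => ?_⟩
      · rcases Nat.lt_or_ge i (m + 1) with hi' | hi'
        · have hWi : Wf i ≤ Wf m := flag_mono Wf (m + 1 + 1) hmono i m (by omega) (by omega)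
          have h1 : Wf i ⊓ (Z ⊔ Y) = Wf i ⊓ Z := by
            apply le_antisymm
            · intro x hx
              obtain ⟨hx1, hx2⟩ := hx
              obtain ⟨z, hz, y, hy, rfl⟩ := Submodule.mem_sup.mp hx2
              have hy0 : y ∈ Wf m ⊓ C := by
                refine ⟨?_, hY1 hy⟩
                have h2 : y = (z + y) - z := by abel
                rw [h2]
                exact (Wf m).sub_mem (hWi hx1) (hZm hz)
              rw [hCbot, Submodule.mem_bot] at hy0
              subst hy0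
              rw [add_zero] at hx1 ⊢
              exact ⟨hx1, hz⟩
            · exact inf_le_inf_left _ le_sup_left
          rw [h1]; exact hZ1 i hi'
        · have hi1 : i = m + 1 := by omega
          subst hi1
          rw [inf_eq_right.mpr hZY_le]; exact hfZY
      · have hm1 : m' = m + 1 := by omega
        subst hm1; exact hZY_le

end Flag

section Main4

open W4c1btstackcounts

variable {d : ℕ → ℕ}

theorem lin_update_self (f₀ : (i : ℕ) → Matrix (Fin (d (i + 1))) (Fin (d i)) k) (r : ℕ)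
    (M : Matrix (Fin (d (r + 1))) (Fin (d r)) k) :
    lin (Function.update f₀ r M) r = Matrix.toLin' M := by
  unfold lin; rw [Function.update_self]

theorem lin_update_ne (f₀ : (i : ℕ) → Matrix (Fin (d (i + 1))) (Fin (d i)) k) (r : ℕ)
    (M : Matrix (Fin (d (r + 1))) (Fin (d r)) k) (l : ℕ) (hl : l ≠ r) :
    lin (Function.update f₀ r M) l = lin f₀ l := by
  unfold lin; rw [Function.update_of_ne hl]

theorem exists_chain_of_isRankArray (d : ℕ → ℕ) : ∀ (r : ℕ) (a : ℕ → ℕ → ℕ),
    IsRankArray d r a →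
    ∃ f : (i : ℕ) → Matrix (Fin (d (i + 1))) (Fin (d i)) k,
      ∀ i j : ℕ, 1 ≤ i → i ≤ j → j ≤ r → rankArray f i j = a i j := by
  intro r
  induction r with
  | zero =>
    intro a _
    exact ⟨fun _ => 0, fun i j h1 h2 h3 => absurd (h1.trans (h2.trans h3)) (by omega)⟩
  | succ r ih =>
    intro a ha
    obtain ⟨ha1, ha2, ha3, ha4⟩ := ha
    obtain ⟨f₀, hf₀⟩ := ih a ⟨fun j h1 h2 => ha1 j h1 (by omega),
      fun i j h1 h2 h3 => ha2 i j h1 h2 (by omega),
      fun i j h1 h2 h3 => ha3 i j h1 h2 (by omega),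
      fun i j h1 h2 h3 => ha4 i j h1 h2 (by omega)⟩
    rcases Nat.eq_zero_or_pos r with hr | hr
    · subst hr
      refine ⟨f₀, fun i j h1 h2 h3 => ?_⟩
      have hi : i = 1 := by omega
      have hj : j = 1 := by omega
      subst hi; subst hj
      rw [rankArray_eq_rk, rk_self, ha1 1 le_rfl le_rfl]
      exact Module.finrank_fin_fun k
    · obtain ⟨F, hF⟩ : ∃ F : ∀ i, Sp k d i →ₗ[k] Sp k d (i + 1), F = lin f₀ := ⟨_, rfl⟩
      have hrk : ∀ i j, 1 ≤ i → i ≤ j → j ≤ r → rk (V := Sp k d) F i j = a i j := by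
        intro i j h1 h2 h3; rw [hF, ← rankArray_eq_rk]; exact hf₀ i j h1 h2 h3
      obtain ⟨Wf, hWf⟩ : ∃ Wf : ℕ → Submodule k (Sp k d r), ∀ i (h : i + 1 ≤ r),
          Wf i = LinearMap.range (cmp (V := Sp k d) F (i + 1) r h) :=
        ⟨fun i => if h : i + 1 ≤ r then LinearMap.range (cmp (V := Sp k d) F (i + 1) r h) else ⊤,
          fun i h => dif_pos h⟩
      have hWfr : ∀ i (h : i + 1 ≤ r), finrank k (Wf i) = a (i + 1) r := by
        intro i h
        rw [hWf i h, ← rk_of_le (V := Sp k d) F (i + 1) r h]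
        exact hrk (i + 1) r (by omega) h le_rfl
      obtain ⟨γ, hγ⟩ : ∃ γ : ℕ → ℕ, ∀ i, γ i = a (i + 1) r - a (i + 1) (r + 1) :=
        ⟨_, fun _ => rfl⟩
      obtain ⟨Z, hZ1, hZ2⟩ := exists_flag_inter Wf γ r
        (fun i hi => by
          rw [hWf i (by omega), hWf (i + 1) (by omega)]
          exact range_cmp_le (V := Sp k d) F (i + 1) r _ _)
        (fun h0 => by rw [hWfr 0 (by omega), hγ]; exact Nat.sub_le _ _)
        (fun i hi => by
          rw [hWfr i (by omega), hWfr (i + 1) (by omega), hγ, hγ]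
          have c2 := ha2 (i + 1) (r + 1) (by omega) (by omega) le_rfl
          have c3 := ha3 (i + 1) r (by omega) (by omega) (by omega)
          have c3' := ha3 (i + 1 + 1) r (by omega) (by omega) (by omega)
          have c4 := ha4 (i + 1 + 1) r (by omega) (by omega) (by omega)
          rw [Nat.add_sub_cancel] at c4
          constructor <;> omega)
      obtain ⟨m, rfl⟩ : ∃ m, r = m + 1 := ⟨r - 1, by omega⟩
      have hZtop : Wf m = ⊤ := by
        rw [hWf m le_rfl, cmp_self, LinearMap.range_id]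
      have hfZ : finrank k Z = a (m + 1) (m + 1) - a (m + 1) (m + 1 + 1) := by
        have h1 := hZ1 m (by omega)
        rwa [hZtop, top_inf_eq, hγ] at h1
      have hN : finrank k (Sp k d (m + 1)) ≤ finrank k Z + d (m + 1 + 1) := by
        have e1 : finrank k (Sp k d (m + 1)) = d (m + 1) := Module.finrank_fin_fun k
        have c1 := ha1 (m + 1) (by omega) (by omega)
        have c1' := ha1 (m + 1 + 1) (by omega) le_rfl
        have c2 := ha2 (m + 1) (m + 1 + 1) (by omega) (by omega) le_rfl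
        have c3 := ha3 (m + 1) (m + 1) (by omega) le_rfl (by omega)
        rw [hfZ, e1]; omega
      obtain ⟨φ, hφ⟩ := exists_map_ker_eq Z (d (m + 1 + 1)) hN
      obtain ⟨f, hf⟩ : ∃ f : (i : ℕ) → Matrix (Fin (d (i + 1))) (Fin (d i)) k,
          f = Function.update f₀ (m + 1) (LinearMap.toMatrix' φ) := ⟨_, rfl⟩
      have hfl : ∀ l, l ≠ m + 1 → lin f l = F l := by
        intro l hl; rw [hf, hF]; exact lin_update_ne f₀ (m + 1) _ l hl
      have hfr : lin f (m + 1) = φ := by
        rw [hf, lin_update_self, Matrix.toLin'_toMatrix']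
      refine ⟨f, fun i j h1 h2 h3 => ?_⟩
      rw [rankArray_eq_rk]
      rcases Nat.lt_or_ge j (m + 1 + 1) with hj | hj
      · rw [rk_of_le (V := Sp k d) (lin f) i j h2,
          cmp_congr (V := Sp k d) (lin f) F i j h2 (fun l _ hl => hfl l (by omega)),
          ← rk_of_le (V := Sp k d) F i j h2]
        exact hrk i j h1 h2 (by omega)
      · have hj' : j = m + 1 + 1 := by omega
        subst hj'
        rcases Nat.lt_or_ge i (m + 1 + 1) with hi | hi
        · have hi' : i ≤ m + 1 := by omega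
          obtain ⟨i', rfl⟩ : ∃ i', i = i' + 1 := ⟨i - 1, by omega⟩
          rw [rk_of_le (V := Sp k d) (lin f) (i' + 1) (m + 1 + 1) h2,
            range_cmp_succ (V := Sp k d) (lin f) (i' + 1) (m + 1) hi',
            cmp_congr (V := Sp k d) (lin f) F (i' + 1) (m + 1) hi'
              (fun l _ hl => hfl l (by omega)),
            hfr, ← hWf i' hi']
          have h5 := finrank_map_add_finrank_inf_ker φ (Wf i')
          rw [hφ, hZ1 i' (by omega), hWfr i' hi', hγ] at h5
          have c3 := ha3 (i' + 1) (m + 1) (by omega) hi' (by omega)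
          have h6 : finrank k ↥(Submodule.map φ (Wf i')) = a (i' + 1) (m + 1 + 1) := by omega
          exact h6
        · have hi' : i = m + 1 + 1 := by omega
          subst hi'
          rw [rk_self, ha1 (m + 1 + 1) (by omega) le_rfl]
          exact Module.finrank_fin_fun k

end Main4

end Groth.Agent.H8.Chain
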