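import Mathlib
import Groth.Prelude.Def_W4c1btstackcountsChain
import Groth.Agent.Lib.Helper8.Chain.Basic

set_option autoImplicit false
open Module

namespace Groth.Agent.H8.Chain

universe u

variable {k : Type u} [Field k]

section Ext

/-- extend an isomorphism of subspaces (given by two injections of the same space). -/
theorem ext_inj {W W' A : Type u} [AddCommGroup W] [Module k W] [AddCommGroup W'] [Module k W']
    [AddCommGroup A] [Module k A] [FiniteDimensional k W] [FiniteDimensional k W']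
    (hd : finrank k W = finrank k W') (ι : A →ₗ[k] W) (ι' : A →ₗ[k] W')
    (hι : Function.Injective ι) (hι' : Function.Injective ι') :
    ∃ g : W →ₗ[k] W', Function.Bijective g ∧ ∀ a, g (ι a) = ι' a := by
  obtain ⟨C, hC⟩ := Submodule.exists_isCompl (LinearMap.range ι)
  obtain ⟨C', hC'⟩ := Submodule.exists_isCompl (LinearMap.range ι')
  obtain ⟨e1, he1⟩ : ∃ e1 : LinearMap.range ι ≃ₗ[k] LinearMap.range ι',
      ∀ a, e1 ⟨ι a, LinearMap.mem_range_self ι a⟩ = ⟨ι' a, LinearMap.mem_range_self ι' a⟩ := by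
    refine ⟨(LinearEquiv.ofInjective ι hι).symm.trans (LinearEquiv.ofInjective ι' hι'),
      fun a => ?_⟩
    have h0 : (LinearEquiv.ofInjective ι hι).symm ⟨ι a, LinearMap.mem_range_self ι a⟩ = a := by
      rw [LinearEquiv.symm_apply_eq]; rfl
    rw [LinearEquiv.trans_apply, h0]; rfl
  have hdC : finrank k C = finrank k C' := by
    have h1 := Submodule.finrank_add_eq_of_isCompl hC
    have h2 := Submodule.finrank_add_eq_of_isCompl hC'
    have h3 := e1.finrank_eq
    omega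
  obtain ⟨e2⟩ : Nonempty (C ≃ₗ[k] C') := ⟨LinearEquiv.ofFinrankEq _ _ hdC⟩
  obtain ⟨E, hE⟩ : ∃ E : W ≃ₗ[k] W', ∀ x, E x = (Submodule.prodEquivOfIsCompl _ _ hC')
      ((e1.prodCongr e2) ((Submodule.prodEquivOfIsCompl _ _ hC).symm x)) :=
    ⟨(Submodule.prodEquivOfIsCompl _ _ hC).symm.trans ((e1.prodCongr e2).trans
      (Submodule.prodEquivOfIsCompl _ _ hC')), fun x => rfl⟩
  refine ⟨E.toLinearMap, E.bijective, fun a => ?_⟩
  have h1 : (Submodule.prodEquivOfIsCompl _ _ hC).symm (ι a) =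
      ((⟨ι a, LinearMap.mem_range_self ι a⟩ : LinearMap.range ι), (0 : C)) :=
    Submodule.prodEquivOfIsCompl_symm_apply_left _ _ hC ⟨ι a, LinearMap.mem_range_self ι a⟩
  show E (ι a) = ι' a
  rw [hE, h1, LinearEquiv.prodCongr_apply, Submodule.coe_prodEquivOfIsCompl', he1, map_zero]
  simp

theorem step {V V' Q Q' : Type u} [AddCommGroup V] [Module k V] [AddCommGroup V'] [Module k V']
    [AddCommGroup Q] [Module k Q] [AddCommGroup Q'] [Module k Q']
    [FiniteDimensional k V] [FiniteDimensional k V']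
    (U : Submodule k V) (U' : Submodule k V') (h : U →ₗ[k] U') (hh : Function.Bijective h)
    (q : V →ₗ[k] Q) (q' : V' →ₗ[k] Q') (hq : Function.Surjective q)
    (hq' : Function.Surjective q') (hp : Q →ₗ[k] Q') (hhp : Function.Bijective hp)
    (hc : ∀ u : U, hp (q u) = q' (h u)) (hd : finrank k V = finrank k V') :
    ∃ g : V →ₗ[k] V', Function.Bijective g ∧ (∀ u : U, g u = h u) ∧
      (∀ x, q' (g x) = hp (q x)) := by
  classical
  obtain ⟨K, hK⟩ : ∃ K : Submodule k V, K = LinearMap.ker q := ⟨_, rfl⟩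
  obtain ⟨K', hK'⟩ : ∃ K' : Submodule k V', K' = LinearMap.ker q' := ⟨_, rfl⟩
  have memK : ∀ x, x ∈ K ↔ q x = 0 := fun x => by rw [hK, LinearMap.mem_ker]
  have memK' : ∀ x, x ∈ K' ↔ q' x = 0 := fun x => by rw [hK', LinearMap.mem_ker]
  haveI : Module.Finite k Q := Module.Finite.of_surjective q hq
  haveI : Module.Finite k Q' := Module.Finite.of_surjective q' hq'
  have hdQ : finrank k Q = finrank k Q' := (LinearEquiv.ofBijective hp hhp).finrank_eq
  have hdK : finrank k K = finrank k K' := by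
    have h1 := q.finrank_range_add_finrank_ker
    have h2 := q'.finrank_range_add_finrank_ker
    rw [LinearMap.range_eq_top.mpr hq, finrank_top] at h1
    rw [LinearMap.range_eq_top.mpr hq', finrank_top] at h2
    rw [hK, hK']; omega
  obtain ⟨U₂, hU₂d, hU₂s⟩ :=
    IsModularLattice.exists_disjoint_and_sup_eq (inf_le_left : U ⊓ K ≤ U)
  have hU₂U : U₂ ≤ U := by rw [← hU₂s]; exact le_sup_right
  have hU₂K : Disjoint U₂ K := by
    rw [disjoint_iff]
    have h1 : U₂ ⊓ K ≤ (U ⊓ K) ⊓ U₂ :=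
      le_inf (le_inf (inf_le_left.trans hU₂U) inf_le_right) inf_le_left
    exact le_bot_iff.mp (h1.trans (disjoint_iff.mp hU₂d).le)
  obtain ⟨M, hU₂M, hMK⟩ := hU₂K.exists_isCompl
  obtain ⟨πK, hπK⟩ : ∃ πK : V →ₗ[k] K, πK = K.projectionOnto M hMK.symm := ⟨_, rfl⟩
  have hπ1 : ∀ x (hx : x ∈ K), πK x = ⟨x, hx⟩ := fun x hx => by
    rw [hπK]; exact Submodule.projectionOnto_apply_of_mem_left hMK.symm hx
  have hπ2 : ∀ x, x ∈ M → πK x = 0 := fun x hx => by
    rw [hπK]; exact Submodule.projectionOnto_apply_of_mem_right hMK.symm hx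
  -- the isomorphism of kernels
  have hker : ∀ n : ↥(U ⊓ K), ((h (Submodule.inclusion inf_le_left n) : U') : V') ∈ K' := by
    intro n
    rw [memK', ← hc, show q ((Submodule.inclusion (inf_le_left : U ⊓ K ≤ U) n : U) : V) = 0 from
      (memK _).mp n.2.2, map_zero]
  obtain ⟨gK, hgKb, hgK⟩ := ext_inj hdK (Submodule.inclusion (inf_le_right : U ⊓ K ≤ K))
    (LinearMap.codRestrict K' (U'.subtype.comp (h.comp (Submodule.inclusion
      (inf_le_left : U ⊓ K ≤ U)))) hker)
    (Submodule.inclusion_injective _)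
    (by
      intro a b hab
      have h1 : ((h (Submodule.inclusion inf_le_left a) : U') : V') =
          ((h (Submodule.inclusion inf_le_left b) : U') : V') :=
        congrArg (fun z : K' => (z : V')) hab
      exact Submodule.inclusion_injective _ (hh.1 (Subtype.ext h1)))
  have hgK' : ∀ n (hnU : n ∈ U) (hnK : n ∈ K), ((gK ⟨n, hnK⟩ : K') : V') = h ⟨n, hnU⟩ :=
    fun n hnU hnK => congrArg Subtype.val (hgK ⟨n, ⟨hnU, hnK⟩⟩)
  obtain ⟨s', hs'⟩ := q'.exists_rightInverse_of_surjective (LinearMap.range_eq_top.mpr hq')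
  have hs'x : ∀ y, q' (s' y) = y := fun y => LinearMap.congr_fun hs' y
  have hε₂ : ∀ u : U₂, (U'.subtype.comp (h.comp (Submodule.inclusion hU₂U)) -
      s'.comp (hp.comp (q.comp U₂.subtype))) u ∈ K' := by
    intro u
    rw [memK']
    show q' (((h (Submodule.inclusion hU₂U u) : U') : V') - s' (hp (q (u : V)))) = 0
    rw [map_sub, hs'x, ← hc]
    exact sub_self _
  obtain ⟨ε, hε⟩ := LinearMap.exists_extend (LinearMap.codRestrict K' _ hε₂)
  have hε' : ∀ u₂ (hu₂ : u₂ ∈ U₂),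
      ((ε u₂ : K') : V') = ((h ⟨u₂, hU₂U hu₂⟩ : U') : V') - s' (hp (q u₂)) :=
    fun u₂ hu₂ => congrArg Subtype.val (LinearMap.congr_fun hε ⟨u₂, hu₂⟩)
  obtain ⟨g, hg⟩ : ∃ g : V →ₗ[k] V', ∀ x, g x =
      ((gK (πK x) : K') : V') + s' (hp (q x)) + ((ε (x - (πK x : V)) : K') : V') :=
    ⟨K'.subtype.comp (gK.comp πK) + s'.comp (hp.comp q) +
      K'.subtype.comp (ε.comp (LinearMap.id - K.subtype.comp πK)), fun x => rfl⟩
  have hii : ∀ x, q' (g x) = hp (q x) := by
    intro x
    rw [hg, map_add, map_add, (memK' _).mp (gK (πK x)).2, (memK' _).mp (ε _).2, hs'x,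
      zero_add, add_zero]
  have hinj : Function.Injective g := by
    rw [injective_iff_map_eq_zero]
    intro x hx
    have h1 : hp (q x) = 0 := by rw [← hii, hx, map_zero]
    have h2 : q x = 0 := hhp.1 (h1.trans (map_zero hp).symm)
    have h3 : x ∈ K := (memK x).mpr h2
    have h4 : πK x = ⟨x, h3⟩ := hπ1 x h3
    have h5 := hg x
    rw [hx, h4, h2, map_zero, map_zero] at h5
    have h6 : x - ((⟨x, h3⟩ : K) : V) = 0 := sub_self x
    rw [h6, map_zero] at h5
    simp only [ZeroMemClass.coe_zero, add_zero] at h5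
    have h7 : gK ⟨x, h3⟩ = 0 := Subtype.ext h5.symm
    have h8 : (⟨x, h3⟩ : K) = 0 := hgKb.1 (h7.trans (map_zero gK).symm)
    exact congrArg Subtype.val h8
  refine ⟨g, ⟨hinj, (LinearMap.injective_iff_surjective_of_finrank_eq_finrank hd).mp hinj⟩,
    ?_, hii⟩
  intro u
  have hu : (u : V) ∈ (U ⊓ K) ⊔ U₂ := by rw [hU₂s]; exact u.2
  obtain ⟨n, hn, u₂, hu₂, hsum⟩ := Submodule.mem_sup.mp hu
  have hnU : n ∈ U := hn.1
  have hnK : n ∈ K := hn.2
  have hu₂U : u₂ ∈ U := hU₂U hu₂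
  have hu₂M : u₂ ∈ M := hU₂M hu₂
  have e1 : πK (u : V) = ⟨n, hnK⟩ := by
    rw [← hsum, map_add, hπ1 n hnK, hπ2 u₂ hu₂M, add_zero]
  have e2 : q (u : V) = q u₂ := by
    rw [← hsum, map_add, (memK n).mp hnK, zero_add]
  have e3 : (u : V) - ((⟨n, hnK⟩ : K) : V) = u₂ := by
    rw [← hsum]; exact add_sub_cancel_left n u₂
  have e6 : u = (⟨n, hnU⟩ : U) + ⟨u₂, hu₂U⟩ := Subtype.ext hsum.symm
  rw [hg, e1, e2, e3, hgK' n hnU hnK, hε' u₂ hu₂]
  rw [e6, map_add, Submodule.coe_add]
  abel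

end Ext

section Image

variable {V : ℕ → Type u} [∀ i, AddCommGroup (V i)] [∀ i, Module k (V i)]

/-- the spaces of the image chain. -/
abbrev ImSp (F : ∀ i, V i →ₗ[k] V (i + 1)) (j : ℕ) : Type u := ↥(LinearMap.range (F j))

/-- the maps of the image chain. -/
noncomputable def imMap (F : ∀ i, V i →ₗ[k] V (i + 1)) (j : ℕ) : ImSp F j →ₗ[k] ImSp F (j + 1) :=
  (F (j + 1)).rangeRestrict.comp (LinearMap.range (F j)).subtype

theorem cmp_image_apply (F : ∀ i, V i →ₗ[k] V (i + 1)) (i : ℕ) :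
    ∀ (j : ℕ) (h : i ≤ j) (x : V i),
      ((cmp (V := ImSp F) (imMap F) i j h ((F i).rangeRestrict x) : ImSp F j) : V (j + 1)) =
        cmp F i (j + 1) (Nat.le_succ_of_le h) x := by
  intro j h
  induction j, h using Nat.le_induction with
  | base =>
    intro x
    rw [cmp_self, cmp_succ F i i le_rfl, cmp_self]; rfl
  | succ j h ih =>
    intro x
    rw [cmp_succ (V := ImSp F) (imMap F) i j h, cmp_succ F i (j + 1) (Nat.le_succ_of_le h)]
    show F (j + 1) ((cmp (V := ImSp F) (imMap F) i j h ((F i).rangeRestrict x) : ImSp F j) :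
      V (j + 1)) = F (j + 1) (cmp F i (j + 1) _ x)
    rw [ih]

theorem rk_image (F : ∀ i, V i →ₗ[k] V (i + 1)) (i j : ℕ) (h : i ≤ j) :
    rk (V := ImSp F) (imMap F) i j = rk F i (j + 1) := by
  rw [rk_of_le (V := ImSp F) (imMap F) i j h, rk_of_le F i (j + 1) (Nat.le_succ_of_le h)]
  have h1 : LinearMap.range (cmp F i (j + 1) (Nat.le_succ_of_le h)) =
      (LinearMap.range (cmp (V := ImSp F) (imMap F) i j h)).map
        (LinearMap.range (F j)).subtype := by
    ext y
    constructor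
    · rintro ⟨x, rfl⟩
      exact ⟨cmp (V := ImSp F) (imMap F) i j h ((F i).rangeRestrict x), ⟨_, rfl⟩,
        cmp_image_apply F i j h x⟩
    · rintro ⟨z, ⟨w, rfl⟩, rfl⟩
      obtain ⟨x, rfl⟩ := (F i).surjective_rangeRestrict w
      exact ⟨x, (cmp_image_apply F i j h x).symm⟩
  rw [h1, Submodule.finrank_map_subtype_eq]

theorem cmp_shift (F : ∀ i, V i →ₗ[k] V (i + 1)) (i : ℕ) :
    ∀ (j : ℕ) (h : i ≤ j), cmp (V := fun j => V (j + 1)) (fun j => F (j + 1)) i j h =
      cmp F (i + 1) (j + 1) (Nat.succ_le_succ h) := by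
  intro j h
  induction j, h using Nat.le_induction with
  | base => rw [cmp_self, cmp_self]
  | succ j h ih =>
    rw [cmp_succ (V := fun j => V (j + 1)) (fun j => F (j + 1)) i j h,
      cmp_succ F (i + 1) (j + 1) (Nat.succ_le_succ h), ih]

theorem rk_shift (F : ∀ i, V i →ₗ[k] V (i + 1)) (i j : ℕ) :
    rk (V := fun j => V (j + 1)) (fun j => F (j + 1)) i j = rk F (i + 1) (j + 1) := by
  by_cases h : i ≤ j
  · rw [rk_of_le (V := fun j => V (j + 1)) (fun j => F (j + 1)) i j h,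
      rk_of_le F (i + 1) (j + 1) (Nat.succ_le_succ h), cmp_shift]
  · unfold rk
    rw [dif_neg h, dif_neg (by omega)]

end Image

section Iso

theorem iso_of_rk_eq : ∀ (r : ℕ) (V V' : ℕ → Type u) [∀ i, AddCommGroup (V i)]
    [∀ i, Module k (V i)] [∀ i, FiniteDimensional k (V i)] [∀ i, AddCommGroup (V' i)]
    [∀ i, Module k (V' i)] [∀ i, FiniteDimensional k (V' i)]
    (F : ∀ i, V i →ₗ[k] V (i + 1)) (F' : ∀ i, V' i →ₗ[k] V' (i + 1)),
    (∀ i j, i ≤ j → j < r → rk F i j = rk F' i j) →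
    ∃ g : ∀ j, V j →ₗ[k] V' j, (∀ j, j < r → Function.Bijective (g j)) ∧
      (∀ j, j + 1 < r → (F' j).comp (g j) = (g (j + 1)).comp (F j)) := by
  intro r
  induction r with
  | zero =>
    intro V V' _ _ _ _ _ _ F F' _
    exact ⟨fun j => 0, fun j hj => absurd hj (Nat.not_lt_zero j),
      fun j hj => absurd hj (Nat.not_lt_zero _)⟩
  | succ r ih =>
    intro V V' _ _ _ _ _ _ F F' hrk
    obtain ⟨h, hhb, hhc⟩ := ih (ImSp F) (ImSp F') (imMap F) (imMap F') (fun i j hij hj => by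
      rw [rk_image F i j hij, rk_image F' i j hij]
      exact hrk i (j + 1) (Nat.le_succ_of_le hij) (Nat.succ_lt_succ hj))
    have hdim : ∀ j, j < r + 1 → finrank k (V j) = finrank k (V' j) := by
      intro j hj
      have h1 := hrk j j le_rfl hj
      rwa [rk_self, rk_self] at h1
    have E0 : ∃ g₀ : V 0 →ₗ[k] V' 0, Function.Bijective g₀ ∧
        (0 < r → ∀ x, (F' 0 (g₀ x) : V' (0 + 1)) =
          ((h 0 ((F 0).rangeRestrict x) : ImSp F' 0) : V' (0 + 1))) := by
      by_cases hr : 0 < r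
      · obtain ⟨g, hgb, -, hg2⟩ := step (⊥ : Submodule k (V 0)) (⊥ : Submodule k (V' 0)) 0
          ⟨fun x y _ => Subsingleton.elim x y, fun y => ⟨0, Subsingleton.elim _ _⟩⟩
          (F 0).rangeRestrict (F' 0).rangeRestrict (F 0).surjective_rangeRestrict
          (F' 0).surjective_rangeRestrict (h 0) (hhb 0 hr)
          (fun u => by
            have h1 : (u : V 0) = 0 := (Submodule.mem_bot k).mp u.2
            simp [h1]) (hdim 0 (Nat.succ_pos r))
        exact ⟨g, hgb, fun _ x => congrArg Subtype.val (hg2 x)⟩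
      · exact ⟨(LinearEquiv.ofFinrankEq _ _ (hdim 0 (Nat.succ_pos r))).toLinearMap,
          LinearEquiv.bijective _, fun h0 => absurd h0 hr⟩
    have ES : ∀ j, ∃ g : V (j + 1) →ₗ[k] V' (j + 1), (j + 1 < r + 1 → Function.Bijective g) ∧
        (j + 1 < r + 1 → ∀ x : V j, g (F j x) =
          ((h j ((F j).rangeRestrict x) : ImSp F' j) : V' (j + 1))) ∧
        (j + 1 + 1 < r + 1 → ∀ x, (F' (j + 1) (g x) : V' (j + 1 + 1)) =
          ((h (j + 1) ((F (j + 1)).rangeRestrict x) : ImSp F' (j + 1)) : V' (j + 1 + 1))) := by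
      intro j
      by_cases hj : j < r
      · have hd := hdim (j + 1) (Nat.succ_lt_succ hj)
        by_cases hj2 : j + 1 < r
        · obtain ⟨g, hgb, hg1, hg2⟩ := step (LinearMap.range (F j)) (LinearMap.range (F' j))
            (h j) (hhb j hj) (F (j + 1)).rangeRestrict (F' (j + 1)).rangeRestrict
            (F (j + 1)).surjective_rangeRestrict (F' (j + 1)).surjective_rangeRestrict
            (h (j + 1)) (hhb (j + 1) hj2)
            (fun u => (LinearMap.congr_fun (hhc j hj2) u).symm) hd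
          exact ⟨g, fun _ => hgb, fun _ x => hg1 ((F j).rangeRestrict x),
            fun _ x => congrArg Subtype.val (hg2 x)⟩
        · obtain ⟨g, hgb, hg1, -⟩ := step (LinearMap.range (F j)) (LinearMap.range (F' j))
            (h j) (hhb j hj) (0 : V (j + 1) →ₗ[k] PUnit.{u + 1})
            (0 : V' (j + 1) →ₗ[k] PUnit.{u + 1})
            (fun y => ⟨0, Subsingleton.elim _ _⟩) (fun y => ⟨0, Subsingleton.elim _ _⟩)
            LinearMap.id Function.bijective_id (fun u => Subsingleton.elim _ _) hd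
          exact ⟨g, fun _ => hgb, fun _ x => hg1 ((F j).rangeRestrict x),
            fun h2 => absurd (by omega) hj2⟩
      · exact ⟨0, fun h1 => absurd (by omega) hj, fun h1 => absurd (by omega) hj,
          fun h1 => absurd (by omega) hj⟩
    obtain ⟨g₀, hg₀b, hg₀c⟩ := E0
    choose gS hgSb hgS1 hgS2 using ES
    refine ⟨fun j => match j with
      | 0 => g₀
      | (j + 1) => gS j, ?_, ?_⟩
    · intro j hj
      cases j with
      | zero => exact hg₀b
      | succ j => exact hgSb j hj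
    · intro j hj
      ext x
      cases j with
      | zero =>
        show F' 0 (g₀ x) = gS 0 (F 0 x)
        rw [hgS1 0 hj x]; exact hg₀c (by omega) x
      | succ j =>
        show F' (j + 1) (gS j x) = gS (j + 1) (F (j + 1) x)
        rw [hgS1 (j + 1) hj x]; exact hgS2 j hj x

end Iso

section Concrete

open W4c1btstackcounts

variable {d : ℕ → ℕ}

theorem exists_gl {n : ℕ} (φ : (Fin n → k) →ₗ[k] (Fin n → k)) (hφ : Function.Bijective φ) :
    ∃ G : Matrix.GeneralLinearGroup (Fin n) k,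
      Matrix.toLin' (G : Matrix (Fin n) (Fin n) k) = φ := by
  obtain ⟨e, he⟩ : ∃ e : (Fin n → k) ≃ₗ[k] (Fin n → k), ∀ x, e x = φ x :=
    ⟨LinearEquiv.ofBijective φ hφ, fun x => rfl⟩
  refine ⟨⟨LinearMap.toMatrix' φ,
    LinearMap.toMatrix' (e.symm : (Fin n → k) →ₗ[k] (Fin n → k)), ?_, ?_⟩,
    Matrix.toLin'_toMatrix' φ⟩
  · rw [← LinearMap.toMatrix'_comp, ← LinearMap.toMatrix'_id]
    congr 1
    refine LinearMap.ext (fun x => ?_)
    show φ (e.symm x) = x
    rw [← he, LinearEquiv.apply_symm_apply]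
  · rw [← LinearMap.toMatrix'_comp, ← LinearMap.toMatrix'_id]
    congr 1
    refine LinearMap.ext (fun x => ?_)
    show e.symm (φ x) = x
    rw [← he, LinearEquiv.symm_apply_apply]

theorem exists_conj_of_rankArray_eq (f f' : (i : ℕ) → Matrix (Fin (d (i + 1))) (Fin (d i)) k)
    (r : ℕ)
    (hr : ∀ i j : ℕ, 1 ≤ i → i ≤ j → j ≤ r → rankArray f i j = rankArray f' i j) :
    ∃ g : (j : ℕ) → Matrix.GeneralLinearGroup (Fin (d j)) k,
      ∀ i : ℕ, 1 ≤ i → i + 1 ≤ r → conj g f i = f' i := by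
  obtain ⟨g', hg'b, hg'c⟩ := iso_of_rk_eq r (fun j => Sp k d (j + 1)) (fun j => Sp k d (j + 1))
    (fun j => lin f (j + 1)) (fun j => lin f' (j + 1)) (fun i j hij hj => by
      rw [rk_shift (V := Sp k d) (lin f) i j, rk_shift (V := Sp k d) (lin f') i j,
        ← rankArray_eq_rk, ← rankArray_eq_rk]
      exact hr (i + 1) (j + 1) (Nat.succ_pos i) (Nat.succ_le_succ hij) hj)
  have hG : ∀ j, ∃ G : Matrix.GeneralLinearGroup (Fin (d (j + 1))) k,
      j < r → Matrix.toLin' (G : Matrix (Fin (d (j + 1))) (Fin (d (j + 1))) k) = g' j := by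
    intro j
    by_cases hj : j < r
    · obtain ⟨G, hG⟩ := exists_gl (g' j) (hg'b j hj)
      exact ⟨G, fun _ => hG⟩
    · exact ⟨1, fun h => absurd h hj⟩
  choose G' hG' using hG
  refine ⟨fun j => match j with
    | 0 => 1
    | (j + 1) => G' j, ?_⟩
  intro i hi hir
  obtain ⟨i', rfl⟩ : ∃ i', i = i' + 1 := ⟨i - 1, by omega⟩
  show ((G' (i' + 1) : Matrix.GeneralLinearGroup (Fin (d (i' + 1 + 1))) k) :
      Matrix (Fin (d (i' + 1 + 1))) (Fin (d (i' + 1 + 1))) k) * f (i' + 1) *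
    (((G' i')⁻¹ : Matrix.GeneralLinearGroup (Fin (d (i' + 1))) k) :
      Matrix (Fin (d (i' + 1))) (Fin (d (i' + 1))) k) = f' (i' + 1)
  have key : ((G' (i' + 1) : Matrix.GeneralLinearGroup (Fin (d (i' + 1 + 1))) k) :
      Matrix (Fin (d (i' + 1 + 1))) (Fin (d (i' + 1 + 1))) k) * f (i' + 1) =
      f' (i' + 1) * ((G' i' : Matrix.GeneralLinearGroup (Fin (d (i' + 1))) k) :
        Matrix (Fin (d (i' + 1))) (Fin (d (i' + 1))) k) := by
    apply Matrix.toLin'.injective
    rw [Matrix.toLin'_mul, Matrix.toLin'_mul, hG' (i' + 1) (by omega), hG' i' (by omega)]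
    exact (hg'c i' (by omega)).symm
  rw [key, Matrix.mul_assoc, ← Units.val_mul, mul_inv_cancel, Units.val_one, Matrix.mul_one]

end Concrete

end Groth.Agent.H8.Chain
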